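import Groth.Agent.S1216
import Groth.Agent.S1351
import Mathlib

/-!
# Functions invertible on the generic fibre over a valuation ring with integral special fibre
-/

set_option autoImplicit false
set_option linter.style.haveILetI false
set_option linter.unusedSectionVars false

universe u

open IsLocalRing

namespace Groth.Agent.FlatMorValTriv

variable {A : Type u} [CommRing A] [IsDomain A] [ValuationRing A]

theorem exists_dvd_of_mem_smul_top {M : Type u} [AddCommGroup M] [Module A M] {J : Ideal A} {x : M}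
    (hx : x ∈ J • (⊤ : Submodule A M)) : ∃ d ∈ J, ∃ y : M, x = d • y := by
  refine Submodule.smul_induction_on hx (fun r hr n _ => ⟨r, hr, n, rfl⟩) ?_
  rintro x z ⟨d, hd, y, rfl⟩ ⟨d', hd', y', rfl⟩
  rcases ValuationRing.dvd_total d d' with ⟨e, rfl⟩ | ⟨e, rfl⟩
  · exact ⟨d, hd, y + e • y', by rw [smul_add, mul_smul]⟩
  · exact ⟨d', hd', e • y + y', by rw [smul_add, mul_smul]⟩

/-- In a flat local algebra with prime special fibre, a function invertible on the generic fibre is a
constant times a unit. -/
theorem exists_eq_mul_unit {B : Type u} [CommRing B] [IsLocalRing B] [Algebra A B]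
    [IsLocalHom (algebraMap A B)] [Algebra.EssFiniteType A B] [Module.Flat A B]
    (hprime : ((maximalIdeal A).map (algebraMap A B)).IsPrime) (β γ : B) (a : A) (ha : a ≠ 0)
    (h : β * γ = algebraMap A B a) :
    ∃ c : A, c ≠ 0 ∧ ∃ v : B, IsUnit v ∧ β = algebraMap A B c * v := by
  obtain ⟨I, ⟨c, hc⟩, hI, hmin⟩ := Groth.Agent.S1216.result (A := A) (B := B) B β
  obtain ⟨d, hd, v, hv⟩ := exists_dvd_of_mem_smul_top hI
  rw [hc] at hd
  obtain ⟨e, rfl⟩ := Submodule.mem_span_singleton.1 hd
  have hβ : β = algebraMap A B c * (e • v) := by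
    rw [hv, smul_eq_mul, mul_smul, Algebra.smul_def, Algebra.smul_def, Algebra.smul_def, mul_left_comm]
  have hc0 : c ≠ 0 := fun h0 => by
    have h1 : (algebraMap A B a) = 0 := by rw [← h, hβ, h0, map_zero, zero_mul, zero_mul]
    have h2 : a • (1 : B) = a • (0 : B) := by rw [smul_zero, Algebra.smul_def, mul_one, h1]
    exact one_ne_zero (Module.Flat.isSMulRegular_of_nonZeroDivisors (mem_nonZeroDivisors_of_ne_zero ha) h2)
  generalize e • v = w at hβ
  refine ⟨c, hc0, w, ?_, hβ⟩
  -- `w` is nonzero on the special fibre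
  have hw : w ∉ (maximalIdeal A).map (algebraMap A B) := fun hw => by
    have hw' : w ∈ maximalIdeal A • (⊤ : Submodule A B) := by rw [Ideal.smul_top_eq_map]; exact hw
    obtain ⟨d, hd, y, hy⟩ := exists_dvd_of_mem_smul_top hw'
    have h1 : β ∈ Ideal.span {c * d} • (⊤ : Submodule A B) := by
      rw [hβ, hy, ← Algebra.smul_def, ← mul_smul]
      exact Submodule.smul_mem_smul (Ideal.mem_span_singleton_self _) trivial
    have h2 := hmin _ h1
    rw [hc] at h2
    obtain ⟨r, hr⟩ := Ideal.mem_span_singleton'.1 (h2 (Submodule.mem_span_singleton_self c))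
    refine hd (isUnit_of_dvd_one ⟨r, mul_left_cancel₀ hc0 ?_⟩)
    rw [mul_one, ← mul_assoc, mul_comm, hr]
  -- hence `B / w` is flat
  have hinj : Function.Injective (Submodule.mapQ (maximalIdeal A • ⊤ : Submodule A B)
      (maximalIdeal A • ⊤ : Submodule A B) ((LinearMap.mul B B w).restrictScalars A)
      (fun n hn => Submodule.smul_top_le_comap_smul_top _ _ hn)) := by
    rw [injective_iff_map_eq_zero]
    intro x hx
    obtain ⟨x, rfl⟩ := Submodule.Quotient.mk_surjective _ x
    rw [Submodule.mapQ_apply, Submodule.Quotient.mk_eq_zero, Ideal.smul_top_eq_map] at hx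
    rw [Submodule.Quotient.mk_eq_zero, Ideal.smul_top_eq_map]
    exact (hprime.mem_or_mem hx).resolve_left hw
  obtain ⟨-, hflat⟩ := Groth.Agent.S1351.result (A := A) (B := B) (LinearMap.mul B B w) hinj
  by_contra hu
  let q : B →ₗ[B] B ⧸ LinearMap.range (LinearMap.mul B B w) := Submodule.mkQ _
  have h0 : q (algebraMap A B a) = 0 :=
    (Submodule.Quotient.mk_eq_zero _).2 ⟨algebraMap A B c * γ, by rw [← h, hβ, LinearMap.mul_apply_apply]; ring⟩
  have h1 : q 1 = 0 := by
    refine Module.Flat.isSMulRegular_of_nonZeroDivisors (R := A) (mem_nonZeroDivisors_of_ne_zero ha) ?_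
    show a • q 1 = a • 0
    rw [smul_zero, ← LinearMap.map_smul_of_tower, Algebra.smul_def, mul_one, h0]
  obtain ⟨x, hx⟩ := (Submodule.Quotient.mk_eq_zero _).1 h1
  exact hu (isUnit_of_dvd_one ⟨x, hx.symm⟩)

/-- The same for the local rings of a flat algebra of finite type. -/
theorem exists_eq_mul_unit_atPrime {C : Type u} [CommRing C] [Algebra A C] [Algebra.FiniteType A C]
    [Module.Flat A C] (hprime : ((maximalIdeal A).map (algebraMap A C)).IsPrime) (p : Ideal C) [p.IsPrime]
    (hp : (maximalIdeal A).map (algebraMap A C) ≤ p) (β γ : C) (a : A) (ha : a ≠ 0)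
    (h : β * γ = algebraMap A C a) :
    ∃ c : A, c ≠ 0 ∧ ∃ v : Localization.AtPrime p, IsUnit v ∧
      algebraMap C (Localization.AtPrime p) β = algebraMap C _ (algebraMap A C c) * v := by
  haveI : Algebra.EssFiniteType A (Localization.AtPrime p) :=
    haveI := Algebra.EssFiniteType.of_isLocalization (Localization.AtPrime p) p.primeCompl
    Algebra.EssFiniteType.comp A C _
  haveI : Module.Flat A (Localization.AtPrime p) :=
    haveI := IsLocalization.flat (Localization.AtPrime p) p.primeCompl
    Module.Flat.trans A C _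
  haveI : IsLocalHom (algebraMap A (Localization.AtPrime p)) := ⟨fun x hx => by
    by_contra hxu
    rw [IsScalarTower.algebraMap_apply A C, IsLocalization.AtPrime.isUnit_to_map_iff _ p] at hx
    exact hx (hp (Ideal.mem_map_of_mem _ hxu))⟩
  have hpr : ((maximalIdeal A).map (algebraMap A (Localization.AtPrime p))).IsPrime := by
    rw [IsScalarTower.algebraMap_eq A C, ← Ideal.map_map]
    exact IsLocalization.isPrime_of_isPrime_disjoint p.primeCompl _ _ hprime
      (Set.disjoint_left.2 fun x hx hx' => hx (hp hx'))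
  obtain ⟨c, hc, v, hv, hcv⟩ := exists_eq_mul_unit hpr (algebraMap C _ β) (algebraMap C _ γ) a ha
    (by rw [← map_mul, h, ← IsScalarTower.algebraMap_apply])
  exact ⟨c, hc, v, hv, by rw [← IsScalarTower.algebraMap_apply]; exact hcv⟩

end Groth.Agent.FlatMorValTriv
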