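import Groth.Agent.FlatMorValTriv.Alg
import Groth.Agent.Coherent.Serre.SpreadAmple
import Groth.Agent.PicLib.PullbackGen
import Groth.Agent.AmpleLib.GenLocus
import Groth.Agent.AmpleLib.Ample

/-!
# Invertible modules trivial on the generic fibre over a valuation ring
-/

set_option autoImplicit false
set_option linter.style.haveILetI false
set_option backward.isDefEq.respectTransparency false
set_option maxHeartbeats 1000000

universe u

open CategoryTheory Limits AlgebraicGeometry Opposite TopologicalSpace TensorProduct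
open Groth.Agent.Coherent Groth.Agent.PicLib Groth.Agent.AmpleLib

namespace Groth.Agent.FlatMorValTriv

variable {A : Type u} [CommRing A] [IsDomain A] [ValuationRing A] {X : Scheme.{u}}
  (f : X ⟶ Spec (CommRingCat.of A))

/-- A global section generating on the generic fibre. -/
theorem exists_section [IsProper f] (L : X.Modules) (hL : PicF.IsInvertible L)
    (htriv : Nonempty ((Scheme.Modules.pullback (f.fiberι (genericPoint (Spec (CommRingCat.of A))))).obj L ≅
      Coh.structureModule (f.fiber (genericPoint (Spec (CommRingCat.of A)))))) :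
    ∃ b : Γ(L, ⊤), ∀ x : X, (f x).asIdeal = ⊥ → x ∈ glocus L b := by
  obtain ⟨e⟩ := htriv
  let η := genericPoint (Spec (CommRingCat.of A))
  let K := FractionRing A
  let ψ : Spec (CommRingCat.of K) ⟶ Spec (CommRingCat.of A) :=
    Spec.map (CommRingCat.ofHom (algebraMap A K))
  have hη : η.asIdeal = ⊥ := by
    rw [show η = _ from genericPoint_eq_bot_of_affine (CommRingCat.of A)]; rfl
  have hψ : ψ (IsLocalRing.closedPoint K) = η := PrimeSpectrum.ext (by
    rw [hη]
    show Ideal.comap (algebraMap A K) (IsLocalRing.maximalIdeal K) = ⊥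
    rw [IsLocalRing.maximalIdeal_eq_bot]
    exact Ideal.comap_bot_of_injective _ (IsFractionRing.injective A K))
  have hq : ∃ q : Spec (CommRingCat.of K) ⟶ Spec ((Spec (CommRingCat.of A)).residueField η),
      q ≫ (Spec (CommRingCat.of A)).fromSpecResidueField η = ψ := by
    rw [← hψ]
    exact ⟨_, Scheme.descResidueField_stalkClosedPointTo_fromSpecResidueField K _ ψ⟩
  obtain ⟨q, hq⟩ := hq
  letI : X.Over (Spec (CommRingCat.of A)) := ⟨f⟩
  let X' := pullback f ψ
  letI : X'.Over (Spec (CommRingCat.of K)) := ⟨pullback.snd f ψ⟩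
  haveI : QuasiCompact (X ↘ Spec (CommRingCat.of A)) := (inferInstance : QuasiCompact f)
  haveI : IsSeparated (X ↘ Spec (CommRingCat.of A)) := (inferInstance : IsSeparated f)
  let g' : X' ⟶ f.fiber η := pullback.lift (pullback.fst f ψ) (pullback.snd f ψ ≫ q)
    (by rw [Category.assoc, hq, pullback.condition])
  have hg' : g' ≫ f.fiberι η = pullback.fst f ψ := pullback.lift_fst _ _ _
  let τ := e.inv.app ⊤ (oneSec (⊤ : (f.fiber η).Opens))
  have hτ : glocus _ τ = ⊤ := (glocus_map_iso e.symm _).trans glocus_oneSec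
  have hLη : PicF.IsInvertible ((Scheme.Modules.pullback (f.fiberι η)).obj L) := isInvertible_of_gens fun y => by
    obtain ⟨U, hy, s, hs⟩ := exists_isGen hL (f.fiberι η y)
    exact ⟨_, hy, _, isGen_pullSec _ hs hL⟩
  let i₂ : (Scheme.Modules.pullback g').obj ((Scheme.Modules.pullback (f.fiberι η)).obj L) ≅
      (Scheme.Modules.pullback (pullback.fst f ψ)).obj L :=
    (Scheme.Modules.pullbackComp g' (f.fiberι η)).app L ≪≫ (Scheme.Modules.pullbackCongr hg').app L
  let σ := i₂.hom.app ⊤ (pullSec g' τ)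
  have hσ : glocus _ σ = ⊤ := by
    rw [glocus_map_iso i₂]
    exact (glocus_pullSec g' hLη τ).trans (by rw [hτ]; rfl)
  haveI : Coh.IsQCoh L := isQCoh_of_isInvertible hL
  obtain ⟨t, b, ht, hb⟩ := Coherent.Serre.exists_pullSec_eq_algebraMap_smul
    (A := A) (B := K) (g := pullback.fst f ψ) (X := X) (X' := X') (h := IsPullback.of_hasPullback f ψ)
    (nonZeroDivisors A) L σ
  refine ⟨b, fun x hx => ?_⟩
  have hr : glocus _ (pullSec (pullback.fst f ψ) b) = ⊤ := by
    rw [hb, ← hσ]
    show glocus _ (Coherent.CohBC.toΓ K (X := X') ⊤ (algebraMap A K t) • σ) = _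
    exact glocus_smul ((IsLocalization.map_units K (⟨t, ht⟩ : nonZeroDivisors A)).map (Coherent.CohBC.toΓ K (X := X') ⊤)) σ
  rw [glocus_pullSec _ hL] at hr
  obtain ⟨z, hz, -⟩ := Scheme.Pullback.exists_preimage_pullback (f := f) (g := ψ) x (IsLocalRing.closedPoint K)
    (by rw [hψ]; exact PrimeSpectrum.ext (hx.trans hη.symm))
  have : z ∈ pullback.fst f ψ ⁻¹ᵁ glocus L b := hr ▸ trivial
  exact hz ▸ this

/-- The prime special fibre of an affine open. -/
theorem isPrime_map_maximalIdeal (hint : IsIntegral (f.fiber (IsLocalRing.closedPoint A)))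
    {U : X.Opens} (hU : IsAffineOpen U) [Algebra A Γ(X, U)]
    (hφ : Spec.map (CommRingCat.ofHom (algebraMap A Γ(X, U))) = hU.fromSpec ≫ f)
    (x : X) (hxU : x ∈ U) (hx : f x = IsLocalRing.closedPoint A) :
    ((IsLocalRing.maximalIdeal A).map (algebraMap A Γ(X, U))).IsPrime := by
  let m := IsLocalRing.maximalIdeal A
  let k := m.ResidueField
  let c : Spec (CommRingCat.of k) ⟶ Spec (CommRingCat.of A) := Spec.map (CommRingCat.ofHom (algebraMap A k))
  let e : Spec ((Spec (CommRingCat.of A)).residueField (IsLocalRing.closedPoint A)) ⟶ Spec (CommRingCat.of k) :=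
    Spec.map (Scheme.Spec.residueFieldIso (CommRingCat.of A) (IsLocalRing.closedPoint A)).inv
  haveI : IsIso e := inferInstance
  have he : e ≫ c = (Spec (CommRingCat.of A)).fromSpecResidueField (IsLocalRing.closedPoint A) :=
    Scheme.Spec.map_residueFieldIso_inv_eq_fromSpecResidueField _ _
  let E : f.fiber (IsLocalRing.closedPoint A) ⟶ pullback f c :=
    pullback.map _ _ _ _ (𝟙 X) e (𝟙 _) (by simp) (by simp [he])
  haveI : IsIso E := inferInstance
  haveI : Nonempty ↥(pullback f c) := ⟨E (genericPoint _)⟩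
  haveI : IsIntegral (pullback f c) := isIntegral_of_isOpenImmersion (inv E)
  let g := Spec.map (CommRingCat.ofHom (algebraMap A Γ(X, U)))
  let F : pullback g c ⟶ pullback f c :=
    pullback.map _ _ _ _ hU.fromSpec (𝟙 _) (𝟙 _) (by simp [g, hφ]) (by simp)
  haveI : IsOpenImmersion F := inferInstance
  obtain ⟨z₀, hz₀⟩ : x ∈ Set.range hU.fromSpec := by rw [hU.range_fromSpec]; exact hxU
  obtain ⟨z, -, -⟩ := Scheme.Pullback.exists_preimage_pullback (f := g) (g := c) z₀ (IsLocalRing.closedPoint k) (by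
    show g z₀ = c _
    rw [show g = hU.fromSpec ≫ f from hφ, Scheme.Hom.comp_apply]
    refine ((congrArg f hz₀).trans hx).trans ?_
    refine PrimeSpectrum.ext ?_
    show m = Ideal.comap (algebraMap A k) (IsLocalRing.maximalIdeal k)
    rw [IsLocalRing.maximalIdeal_eq_bot, ← RingHom.ker_eq_comap_bot, Ideal.ker_algebraMap_residueField])
  haveI : Nonempty ↥(pullback g c) := ⟨z⟩
  haveI : IsIntegral (pullback g c) := isIntegral_of_isOpenImmersion F
  haveI : IsIntegral (Spec (CommRingCat.of (Γ(X, U) ⊗[A] k))) := by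
    haveI : Nonempty (Spec (CommRingCat.of (Γ(X, U) ⊗[A] k))) := ⟨(pullbackSpecIso A Γ(X, U) k).hom z⟩
    exact isIntegral_of_isOpenImmersion (pullbackSpecIso A Γ(X, U) k).inv
  haveI : IsDomain (Γ(X, U) ⊗[A] k) := (affine_isIntegral_iff (CommRingCat.of (Γ(X, U) ⊗[A] k))).1 inferInstance
  have hk : Function.Surjective (algebraMap A k) := Ideal.algebraMap_residueField_surjective _
  have hker : RingHom.ker (Algebra.TensorProduct.includeLeft : Γ(X, U) →ₐ[A] Γ(X, U) ⊗[A] k).toRingHom =
      m.map (algebraMap A Γ(X, U)) := by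
    refine le_antisymm (fun y hy => ?_) (Ideal.map_le_iff_le_comap.2 fun a ha => ?_)
    · rw [RingHom.mem_ker] at hy
      let l : Γ(X, U) ⊗[A] k →ₐ[A] Γ(X, U) ⧸ m.map (algebraMap A Γ(X, U)) :=
        Algebra.TensorProduct.lift (Ideal.Quotient.mkₐ A _)
          (AlgHom.liftOfSurjective (IsScalarTower.toAlgHom A A k) hk (IsScalarTower.toAlgHom A A _) (fun a ha => by
            rw [RingHom.mem_ker] at ha ⊢
            exact Ideal.Quotient.eq_zero_iff_mem.2 (Ideal.mem_map_of_mem _ (Ideal.algebraMap_residueField_eq_zero.1 ha))))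
          (fun _ _ => Commute.all _ _)
      have := congrArg l hy
      rw [map_zero] at this
      refine Ideal.Quotient.eq_zero_iff_mem.1 (Eq.trans ?_ this)
      show _ = l (y ⊗ₜ[A] 1)
      rw [Algebra.TensorProduct.lift_tmul, map_one, mul_one]
      rfl
    · rw [Ideal.mem_comap, RingHom.mem_ker]
      show algebraMap A Γ(X, U) a ⊗ₜ[A] (1 : k) = 0
      rw [Algebra.algebraMap_eq_smul_one, TensorProduct.smul_tmul, ← Algebra.algebraMap_eq_smul_one,
        Ideal.algebraMap_residueField_eq_zero.2 ha, TensorProduct.tmul_zero]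
  rw [← hker]
  exact RingHom.ker_isPrime _

/-- Near `y` the section is `c` times a generator. -/
def IsDiv (L : X.Modules) (b : Γ(L, ⊤)) (c : A) (y : X) : Prop :=
  ∃ V : X.Opens, y ∈ V ∧ ∃ s : Γ(L, V), IsGen L V s ∧
    res (le_top : V ≤ ⊤) ((Scheme.ΓSpecIso (CommRingCat.of A)).inv ≫ f.appTop <| c) • s = resM L le_top b

variable {f}

/-- Constants are determined up to units. -/
theorem IsDiv.eq_mul_unit [Flat f] {L : X.Modules} {b : Γ(L, ⊤)} {c c' : A} {y : X}
    (h : IsDiv f L b c y) (h' : IsDiv f L b c' y) (hc : c ≠ 0) (hc' : c' ≠ 0) (hy : f y = IsLocalRing.closedPoint A) :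
    ∃ r : A, IsUnit r ∧ c = c' * r := by
  obtain ⟨V, hyV, s, hs, hbs⟩ := h
  obtain ⟨V', hyV', s', hs', hbs'⟩ := h'
  let φ : A →+* X.presheaf.stalk y :=
    (X.presheaf.germ ⊤ y trivial).hom.comp ((Scheme.ΓSpecIso (CommRingCat.of A)).inv ≫ f.appTop).hom
  let a : A →+* Γ(X, V ⊓ V') :=
    (res (le_top : V ⊓ V' ≤ ⊤)).comp ((Scheme.ΓSpecIso (CommRingCat.of A)).inv ≫ f.appTop).hom
  have hg := hs.restrict (inf_le_left : V ⊓ V' ≤ V)
  have hg' := hs'.restrict (inf_le_right : V ⊓ V' ≤ V')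
  let w := hg.coef le_rfl (resM L inf_le_right s')
  have hw : IsUnit w := hg.isUnit_coef hg'
  have e1 := congrArg (resM L (inf_le_left : V ⊓ V' ≤ V)) hbs
  have e2 := congrArg (resM L (inf_le_right : V ⊓ V' ≤ V')) hbs'
  rw [resM_smul, resM_resM] at e1 e2
  have e3 : a c • resM L (inf_le_left : V ⊓ V' ≤ V) s = (a c' * w) • resM L (inf_le_left : V ⊓ V' ≤ V) s := by
    have hw' := hg.coef_spec le_rfl (resM L inf_le_right s')
    rw [resM_self] at hw'
    rw [mul_smul, hw']
    refine Eq.trans ?_ (e1.trans (e2.symm.trans ?_)) <;>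
      · simp only [a, RingHom.comp_apply, PicLib.res_res]
  have e4 : a c = a c' * w := (hg _ le_rfl).1 (by simpa only [resM_self] using e3)
  have e5 : φ c = φ c' * (X.presheaf.germ (V ⊓ V') y ⟨hyV, hyV'⟩).hom w := by
    have := congrArg (X.presheaf.germ (V ⊓ V') y ⟨hyV, hyV'⟩).hom e4
    rw [map_mul] at this
    refine Eq.trans ?_ (this.trans (congrArg (· * _) ?_)) <;>
      simp [φ, a, TopCat.Presheaf.germ_res_apply]
  letI := φ.toAlgebra
  let τ := (Spec.stalkIso (CommRingCat.of A) (f y)).inv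
  have hσ : φ = (f.stalkMap y).hom.comp (τ.hom.comp (algebraMap A (Localization.AtPrime (f y).asIdeal))) := by
    have h0 : CommRingCat.ofHom (algebraMap A (Localization.AtPrime (f y).asIdeal)) ≫ τ ≫ f.stalkMap y =
        CommRingCat.ofHom φ := by
      have h1 : CommRingCat.ofHom (algebraMap A (Localization.AtPrime (f y).asIdeal)) ≫ τ =
          (Scheme.ΓSpecIso (CommRingCat.of A)).inv ≫ (Spec (CommRingCat.of A)).presheaf.germ ⊤ (f y) trivial :=
        Spec.algebraMap_stalkIso_inv _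
      rw [← Category.assoc, h1, Category.assoc, Scheme.Hom.germ_stalkMap]
      rfl
    exact congrArg CommRingCat.Hom.hom h0.symm
  haveI : IsIso τ := inferInstanceAs (IsIso (Spec.stalkIso (CommRingCat.of A) (f y)).inv)
  have hflat : φ.Flat := by
    rw [hσ]
    exact RingHom.Flat.comp (RingHom.Flat.comp (RingHom.flat_algebraMap_iff.2
      (IsLocalization.flat _ (f y).asIdeal.primeCompl))
      (RingHom.Flat.of_bijective (ConcreteCategory.bijective_of_isIso τ))) (Flat.stalkMap f y)
  have hloc : ∀ r : A, IsUnit (φ r) → IsUnit r := fun r hr => by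
    rw [hσ, RingHom.comp_apply, RingHom.comp_apply] at hr
    have h1 : IsUnit (τ.hom (algebraMap A _ r)) := (isUnit_map_iff (f.stalkMap y).hom _).1 hr
    have h2 : IsUnit (algebraMap A (Localization.AtPrime (f y).asIdeal) r) := by
      have := h1.map (inv τ).hom
      rwa [← CommRingCat.comp_apply, IsIso.hom_inv_id, CommRingCat.id_apply] at this
    rw [IsLocalization.AtPrime.isUnit_to_map_iff _ (f y).asIdeal] at h2
    rw [hy] at h2
    by_contra hru
    exact h2 hru
  haveI : Module.Flat A (X.presheaf.stalk y) := hflat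
  have hu := hw.map (X.presheaf.germ (V ⊓ V') y ⟨hyV, hyV'⟩).hom
  rcases ValuationRing.dvd_total c' c with ⟨r, rfl⟩ | ⟨r, rfl⟩
  · refine ⟨r, hloc r ?_, rfl⟩
    rw [map_mul] at e5
    have := Module.Flat.isSMulRegular_of_nonZeroDivisors (R := A) (M := X.presheaf.stalk y)
      (mem_nonZeroDivisors_of_ne_zero hc') (show c' • φ r = c' • _ from e5)
    rw [this]
    exact hu
  · rw [map_mul, mul_assoc] at e5
    have := Module.Flat.isSMulRegular_of_nonZeroDivisors (R := A) (M := X.presheaf.stalk y)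
      (mem_nonZeroDivisors_of_ne_zero hc) (show c • (1 : X.presheaf.stalk y) = c • _ from (mul_one _).trans e5)
    obtain ⟨r, rfl⟩ := hloc r (isUnit_of_mul_isUnit_left (this ▸ isUnit_one))
    exact ⟨↑r⁻¹, r⁻¹.isUnit, (Units.mul_inv_cancel_right c r).symm⟩

/-- Existence of the constant at a point of the special fibre. -/
theorem exists_isDiv [Flat f] [LocallyOfFiniteType f] (hint : IsIntegral (f.fiber (IsLocalRing.closedPoint A)))
    {L : X.Modules} (hL : PicF.IsInvertible L) (b : Γ(L, ⊤)) (hb : ∀ x : X, (f x).asIdeal = ⊥ → x ∈ glocus L b)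
    (x : X) (hx : f x = IsLocalRing.closedPoint A) : ∃ c : A, c ≠ 0 ∧ IsDiv f L b c x := by
  obtain ⟨U₀, hxU₀, g₀, hg₀⟩ := exists_isGen hL x
  obtain ⟨_, ⟨U, hU, rfl⟩, hxU, hUU₀⟩ := X.isBasis_affineOpens.exists_subset_of_mem_open hxU₀ U₀.2
  let s := resM L hUU₀ g₀
  have hs : IsGen L U s := hg₀.restrict hUU₀
  let C := Γ(X, U)
  let ψ : A →+* C := (res (le_top : U ≤ (⊤ : X.Opens))).comp ((Scheme.ΓSpecIso (CommRingCat.of A)).inv ≫ f.appTop).hom
  letI : Algebra A C := ψ.toAlgebra
  have hφ : Spec.map (CommRingCat.ofHom (algebraMap A C)) = IsAffineOpen.fromSpec hU ≫ f := by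
    rw [← IsAffineOpen.SpecMap_appLE_fromSpec f (isAffineOpen_top _) hU le_top, IsAffineOpen.fromSpec_top,
      Scheme.isoSpec_Spec_inv, ← Spec.map_comp]
    rfl
  haveI : Algebra.FiniteType A C := by
    have : LocallyOfFiniteType (IsAffineOpen.fromSpec hU ≫ f) := inferInstance
    rw [← hφ] at this
    exact (HasRingHomProperty.Spec_iff (P := @LocallyOfFiniteType)).mp this
  haveI : Module.Flat A C := by
    have : Flat (IsAffineOpen.fromSpec hU ≫ f) := inferInstance
    rw [← hφ] at this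
    exact (HasRingHomProperty.Spec_iff (P := @Flat)).mp this
  let β : C := hs.coef le_rfl (resM L le_top b)
  have hpt : ∀ P : PrimeSpectrum C, f (IsAffineOpen.fromSpec hU P) = PrimeSpectrum.comap (algebraMap A C) P := fun P => by
    rw [← Scheme.Hom.comp_apply, ← hφ]
    rfl
  obtain ⟨a, ha, γ, hγ⟩ : ∃ a : A, a ≠ 0 ∧ ∃ γ : C, β * γ = algebraMap A C a := by
    by_contra hno
    push Not at hno
    obtain ⟨P, hPprime, hle, hdisj⟩ := Ideal.exists_le_prime_disjoint (Ideal.span {β})
      ((nonZeroDivisors A).map (algebraMap A C)) (Set.disjoint_left.2 fun z hz => by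
        rintro ⟨a, ha, rfl⟩
        obtain ⟨γ, hγ⟩ := Ideal.mem_span_singleton'.1 hz
        exact hno a (nonZeroDivisors.ne_zero ha) γ (by rw [mul_comm]; exact hγ))
    have h1 : (f (IsAffineOpen.fromSpec hU ⟨P, hPprime⟩)).asIdeal = ⊥ := by
      rw [hpt]
      refine eq_bot_iff.2 fun a ha => ?_
      by_contra ha0
      exact Set.disjoint_left.1 hdisj ha ⟨a, mem_nonZeroDivisors_of_ne_zero ha0, rfl⟩
    have h2 : IsAffineOpen.fromSpec hU ⟨P, hPprime⟩ ∈ glocus L b ⊓ U :=
      ⟨hb _ h1, by exact (IsAffineOpen.range_fromSpec hU).subset ⟨_, rfl⟩⟩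
    rw [glocus_inf b hs] at h2
    have h3 : (⟨P, hPprime⟩ : PrimeSpectrum C) ∈ PrimeSpectrum.basicOpen β :=
      (IsAffineOpen.fromSpec_preimage_basicOpen hU β).le h2
    exact h3 (hle (Ideal.mem_span_singleton_self β))
  let P := IsAffineOpen.primeIdealOf hU ⟨x, hxU⟩
  have hPx : IsAffineOpen.fromSpec hU P = x := IsAffineOpen.fromSpec_primeIdealOf hU ⟨x, hxU⟩
  have hP : (IsLocalRing.maximalIdeal A).map (algebraMap A C) ≤ P.asIdeal := by
    rw [Ideal.map_le_iff_le_comap]
    exact ((congrArg PrimeSpectrum.asIdeal ((hpt P).symm.trans ((congrArg f hPx).trans hx))).symm).le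
  obtain ⟨c, hc, v, hv, hcv⟩ := exists_eq_mul_unit_atPrime (isPrime_map_maximalIdeal f hint hU hφ x hxU hx)
    P.asIdeal hP β γ a ha hγ
  -- descend to a basic open
  obtain ⟨⟨w, t⟩, hwt⟩ := IsLocalization.surj P.asIdeal.primeCompl v
  have h4 : algebraMap C (Localization.AtPrime P.asIdeal) (β * t.1) =
      algebraMap C (Localization.AtPrime P.asIdeal) (algebraMap A C c * w) := by
    rw [map_mul, map_mul, hcv, mul_assoc, hwt]
  obtain ⟨r, hr⟩ := (IsLocalization.eq_iff_exists P.asIdeal.primeCompl _).1 h4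
  have hw : w ∉ P.asIdeal := fun hwP => by
    have h5 : IsUnit (algebraMap C (Localization.AtPrime P.asIdeal) w) := by
      rw [← hwt]; exact hv.mul (IsLocalization.map_units _ t)
    exact (IsLocalization.AtPrime.isUnit_to_map_iff _ P.asIdeal w).1 h5 hwP
  let D := X.basicOpen (t.1 * r.1 * w)
  have hxD : x ∈ D := by
    have : P ∈ PrimeSpectrum.basicOpen (t.1 * r.1 * w) :=
      fun hm => (P.isPrime.mem_or_mem hm).elim (fun h => (P.isPrime.mem_or_mem h).elim t.2 r.2) hw
    rw [← IsAffineOpen.fromSpec_preimage_basicOpen hU] at this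
    exact hPx ▸ this
  have hDU : D ≤ U := X.basicOpen_le _
  have hu : IsUnit (res hDU (t.1 * r.1 * w)) := RingedSpace.isUnit_res_basicOpen _ _
  rw [map_mul, map_mul, IsUnit.mul_iff, IsUnit.mul_iff] at hu
  obtain ⟨⟨ht, hr'⟩, hw'⟩ := hu
  obtain ⟨t', ht'⟩ := ht
  refine ⟨c, hc, D, hxD, (res hDU w * ↑t'⁻¹) • resM L hDU s, ?_, ?_⟩
  · exact (isGen_smul_iff (hw'.mul (Units.isUnit _))).2 (hs.restrict hDU)
  · have e0 := congrArg (resM L hDU) (hs.coef_spec le_rfl (resM L le_top b))
    simp only [resM_smul, resM_resM] at e0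
    rw [← e0, smul_smul]
    refine congrArg (· • _) (hr'.mul_left_cancel ?_)
    have e6 := congrArg (res hDU) hr
    simp only [map_mul] at e6
    have e7 : res hDU (algebraMap A C c) =
        res (le_top : D ≤ ⊤) (((Scheme.ΓSpecIso (CommRingCat.of A)).inv ≫ f.appTop) c) := PicLib.res_res _ _ _
    rw [← e7]
    calc res hDU r.1 * (res hDU (algebraMap A C c) * (res hDU w * ↑t'⁻¹))
        = res hDU r.1 * (res hDU (algebraMap A C c) * res hDU w) * ↑t'⁻¹ := by ring
      _ = res hDU r.1 * res hDU β * (↑t' * ↑t'⁻¹) := by rw [← e6, ht']; ring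
      _ = res hDU r.1 * res hDU β := by rw [Units.mul_inv, mul_one]

/-- An invertible module trivial on the generic fibre is trivial. -/
theorem nonempty_iso [IsProper f] [Flat f] (hint : IsIntegral (f.fiber (IsLocalRing.closedPoint A)))
    {L : X.Modules} (hL : PicF.IsInvertible L) (b : Γ(L, ⊤)) (hb : ∀ x : X, (f x).asIdeal = ⊥ → x ∈ glocus L b) :
    Nonempty (L ≅ Coh.structureModule X) := by
  let s₀ := IsLocalRing.closedPoint A
  let ξ := f.fiberι s₀ (genericPoint (f.fiber s₀))
  have hξ : f ξ = s₀ := by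
    have : ξ ∈ Set.range (f.fiberι s₀) := ⟨_, rfl⟩
    rwa [f.range_fiberι] at this
  obtain ⟨c, hc, hcξ⟩ := exists_isDiv hint hL b hb ξ hξ
  -- the same constant everywhere
  have hspec : ∀ x : X, f x = s₀ → IsDiv f L b c x := fun x hx => by
    obtain ⟨z, rfl⟩ : x ∈ Set.range (f.fiberι s₀) := by rw [f.range_fiberι]; exact hx
    have hsp : ξ ⤳ f.fiberι s₀ z := (genericPoint_specializes z).map (f.fiberι s₀).continuous
    obtain ⟨d, hd, V, hzV, s, hs, hbs⟩ := exists_isDiv hint hL b hb _ hx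
    obtain ⟨r, hr, hcd⟩ := IsDiv.eq_mul_unit hcξ ⟨V, hsp.mem_open V.2 hzV, s, hs, hbs⟩ hc hd hξ
    obtain ⟨r, rfl⟩ := hr
    let ρ : A →+* Γ(X, V) :=
      (res (le_top : V ≤ (⊤ : X.Opens))).comp ((Scheme.ΓSpecIso (CommRingCat.of A)).inv ≫ f.appTop).hom
    refine ⟨V, hzV, ρ ↑r⁻¹ • s, (isGen_smul_iff (r⁻¹.isUnit.map ρ)).2 hs, ?_⟩
    rw [← hbs, smul_smul]
    show (ρ c * ρ ↑r⁻¹) • s = ρ d • s
    rw [← map_mul, hcd, Units.mul_inv_cancel_right]
  have hall : ∀ y : X, IsDiv f L b c y := fun y => by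
    haveI : CompactSpace X := QuasiCompact.compactSpace_of_compactSpace f
    obtain ⟨x, hx, hxc⟩ := (isClosed_closure (s := ({y} : Set X))).exists_closed_singleton ⟨y, subset_closure rfl⟩
    have hfx : f x = s₀ := by
      have := f.isClosedMap _ hxc
      rw [Set.image_singleton] at this
      exact PrimeSpectrum.ext (IsLocalRing.eq_maximalIdeal ((PrimeSpectrum.isClosed_singleton_iff_isMaximal _).mp this))
    obtain ⟨V, hxV, h⟩ := hspec x hfx
    exact ⟨V, (specializes_iff_mem_closure.2 hx).mem_open V.2 hxV, h⟩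
  choose V hV s hs hbs using hall
  let ρ : ∀ W : X.Opens, A →+* Γ(X, W) := fun W =>
    (res (le_top : W ≤ (⊤ : X.Opens))).comp ((Scheme.ΓSpecIso (CommRingCat.of A)).inv ≫ f.appTop).hom
  -- `c` is a nonzerodivisor on functions
  have hreg : ∀ (W : X.Opens) (z : Γ(X, W)), ρ W c * z = 0 → z = 0 := fun W z hz => by
    refine TopCat.Sheaf.eq_of_locally_eq' X.sheaf (fun U : {U : X.affineOpens // U.1 ≤ W} => U.1.1) W
      (fun U => homOfLE U.2) (fun y hy => ?_) _ _ fun U => ?_
    · obtain ⟨_, ⟨U, hU, rfl⟩, hyU, hUW⟩ := X.isBasis_affineOpens.exists_subset_of_mem_open hy W.2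
      exact Opens.mem_iSup.2 ⟨⟨⟨U, hU⟩, hUW⟩, hyU⟩
    · letI : Algebra A Γ(X, U.1.1) := (ρ U.1.1).toAlgebra
      have hfl : (ρ U.1.1).Flat := by
        have h1 := f.flat_appLE (isAffineOpen_top _) U.1.2 le_top
        exact RingHom.Flat.comp (f := (Scheme.ΓSpecIso (CommRingCat.of A)).inv.hom)
          (RingHom.Flat.of_bijective (ConcreteCategory.bijective_of_isIso (Scheme.ΓSpecIso (CommRingCat.of A)).inv)) h1
      haveI : Module.Flat A Γ(X, U.1.1) := hfl
      show res U.2 z = res U.2 0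
      refine Module.Flat.isSMulRegular_of_nonZeroDivisors (R := A) (M := Γ(X, U.1.1)) (mem_nonZeroDivisors_of_ne_zero hc) ?_
      show ρ U.1.1 c * res U.2 z = ρ U.1.1 c * res U.2 0
      rw [map_zero, mul_zero, ← map_zero (res U.2), ← hz, map_mul]
      exact congrArg (· * _) (PicLib.res_res _ _ _).symm
  have hcomp : ∀ (i j : X) (W : X.Opens) (hi : W ≤ V i) (hj : W ≤ V j) (e : Γ(X, W)),
      resM L hi (s i) = e • resM L hj (s j) → resM (Coh.structureModule X) hi (oneSec (V i)) =
        e • resM (Coh.structureModule X) hj (oneSec (V j)) := by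
    intro i j W hi hj e he
    have e1 := congrArg (resM L hi) (hbs i)
    have e2 := congrArg (resM L hj) (hbs j)
    rw [resM_smul, resM_resM, PicLib.res_res] at e1 e2
    rw [he, smul_smul] at e1
    have e3 := ((hs j) W hj).1 (e1.trans e2.symm)
    have e4 : e = 1 := sub_eq_zero.1 (hreg W _ (by
      rw [mul_sub, mul_one]
      exact sub_eq_zero.2 e3))
    rw [e4, one_smul]
    simp [resM_oneSec]
  obtain ⟨φ, hφ⟩ := exists_hom_of_gen V (eq_top_iff.2 fun y _ => Opens.mem_iSup.2 ⟨y, hV y⟩) s hs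
    (fun y => oneSec (V y)) hcomp
  haveI := isIso_of_gens φ V (eq_top_iff.2 fun y _ => Opens.mem_iSup.2 ⟨y, hV y⟩) s hs
    (fun y => by rw [hφ]; exact isGen_oneSec _)
  exact ⟨asIso φ⟩

end Groth.Agent.FlatMorValTriv
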